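import Cfsg.Agent.S5981
import Cfsg.Agent.Forms.SympEmbed

/-!
Congruence of invertible symmetric and alternating matrices over a finite field of odd characteristic.
-/

set_option autoImplicit false

namespace CfsgLib.SignedClasses

open Matrix

variable {F : Type*} [Field F] [Fintype F] {κ : Type*} [Fintype κ] [DecidableEq κ]

/-- Symmetric invertible matrices with the same discriminant are congruent. -/
theorem congr_symm (h2 : (2 : F) ≠ 0) {B B' : Matrix κ κ F} (hB : Bᵀ = B) (hBu : IsUnit B.det) (hB' : B'ᵀ = B')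
    (hB'u : IsUnit B'.det) (hsq : IsSquare (B.det * B'.det)) : ∃ a : Matrix κ κ F, IsUnit a.det ∧ aᵀ * B * a = B' := by
  classical
  obtain ⟨e, -⟩ : ∃ _e : κ ≃ Fin (Fintype.card κ), True := ⟨Fintype.equivFin κ, trivial⟩
  obtain ⟨G, hG⟩ : ∃ G, G = Matrix.reindex e e B' := ⟨_, rfl⟩
  obtain ⟨G', hG'⟩ : ∃ G', G' = Matrix.reindex e e B := ⟨_, rfl⟩
  have hGs : Gᵀ = G := by rw [hG, Matrix.transpose_reindex, hB']
  have hGu : IsUnit G.det := by rw [hG, Matrix.det_reindex_self]; exact hB'u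
  let Q : QuadraticForm F (Fin (Fintype.card κ) → F) :=
    LinearMap.BilinMap.toQuadraticMap (Matrix.toBilin' ((2 : F)⁻¹ • G))
  have hQ : ∀ u v, u ⬝ᵥ (G *ᵥ v) = QuadraticMap.polar Q u v := fun u v => by
    rw [LinearMap.BilinMap.polar_toQuadraticMap, Matrix.toBilin'_apply', Matrix.toBilin'_apply', Matrix.smul_mulVec,
      Matrix.smul_mulVec, dotProduct_smul, dotProduct_smul, smul_eq_mul, smul_eq_mul,
      Matrix.dotProduct_mulVec v, ← Matrix.mulVec_transpose, hGs, dotProduct_comm (G *ᵥ v)]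
    field_simp
    ring
  have hQn : (QuadraticMap.polarBilin Q).Nondegenerate := CfsgLib.Forms.nondegenerate_iff.2 fun v hv => by
    by_contra hv0
    refine hGu.ne_zero (Matrix.exists_mulVec_eq_zero_iff.mp ⟨v, hv0, funext fun i => ?_⟩)
    have := hv (Pi.single i 1)
    rw [QuadraticMap.polar_comm, ← hQ] at this
    simpa using this
  obtain ⟨R, hRu, hR⟩ := Cfsg.Agent.S5981.congr_of_isSquare h2 Q hQn hQ (G' := G')
    (by rw [hG', Matrix.transpose_reindex, hB]) (by rw [hG', Matrix.det_reindex_self]; exact hBu)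
    (by rw [hG, hG', Matrix.det_reindex_self, Matrix.det_reindex_self, mul_comm]; exact hsq)
  refine ⟨Matrix.reindex e.symm e.symm R, by rw [Matrix.det_reindex_self]; exact hRu, ?_⟩
  apply (Matrix.reindex e e).injective
  rw [← hG, hR, hG']
  simp only [Matrix.reindex_apply, Equiv.symm_symm, Matrix.transpose_submatrix]
  rw [← Matrix.submatrix_mul_equiv _ _ _ e.symm _, ← Matrix.submatrix_mul_equiv _ _ _ e.symm _]
  simp

/-- Alternating invertible matrices of the same size are congruent. -/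
theorem congr_alt (h2 : (2 : F) ≠ 0) {B B' : Matrix κ κ F} (hB : Bᵀ = -B) (hBu : IsUnit B.det) (hB' : B'ᵀ = -B')
    (hB'u : IsUnit B'.det) : ∃ a : Matrix κ κ F, IsUnit a.det ∧ aᵀ * B * a = B' := by
  classical
  have key : ∀ (C : Matrix κ κ F), Cᵀ = -C → IsUnit C.det →
      (Matrix.toBilin' C).IsAlt ∧ (Matrix.toBilin' C).SeparatingLeft := fun C hC hCu => by
    refine ⟨fun x => ?_, fun x hx => ?_⟩
    · have h : x ⬝ᵥ (C *ᵥ x) = -(x ⬝ᵥ (C *ᵥ x)) := by
        conv_lhs => rw [Matrix.dotProduct_mulVec, ← Matrix.mulVec_transpose, hC, Matrix.neg_mulVec, neg_dotProduct,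
          dotProduct_comm]
      rw [Matrix.toBilin'_apply']
      refine (mul_eq_zero.mp ?_).resolve_left h2
      linear_combination h
    · by_contra hx0
      refine hCu.ne_zero ((Matrix.det_transpose C) ▸ Matrix.exists_mulVec_eq_zero_iff.mp ⟨x, hx0, funext fun i => ?_⟩)
      have h := hx (Pi.single i 1)
      rw [Matrix.toBilin'_apply', Matrix.dotProduct_mulVec, ← Matrix.mulVec_transpose] at h
      simpa using h
  obtain ⟨hA, hS⟩ := key B hB hBu
  obtain ⟨hA', hS'⟩ := key B' hB' hB'u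
  obtain ⟨m, k, b, -, -, -, hrad⟩ := Cfsg.Agent.S0752.result (Matrix.toBilin' B) hA
  have hk : k = 0 := by
    rcases Nat.eq_zero_or_pos k with h | h
    · exact h
    · exact absurd (hS _ (hrad ⟨0, h⟩)) (b.ne_zero _)
  subst hk
  have hdim : Module.finrank F (κ → F) = 2 * m := by
    rw [Module.finrank_eq_card_basis b]; simp; omega
  obtain ⟨g, hg⟩ := CfsgLib.Forms.exists_symp_coord hdim _ hA hS
  obtain ⟨g', hg'⟩ := CfsgLib.Forms.exists_symp_coord hdim _ hA' hS'
  obtain ⟨R, hR⟩ : ∃ R, R = LinearMap.toMatrix' (g'.trans g.symm).toLinearMap := ⟨_, rfl⟩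
  have hRv : ∀ v, R *ᵥ v = g.symm (g' v) := fun v => by rw [hR, LinearMap.toMatrix'_mulVec]; rfl
  refine ⟨R, by rw [hR, LinearMap.det_toMatrix']; exact LinearEquiv.isUnit_det' _, ?_⟩
  refine Matrix.ext_of_mulVec_single fun j => funext fun i => ?_
  have h := hg (R *ᵥ Pi.single i 1) (R *ᵥ Pi.single j 1)
  rw [hRv, hRv, g.apply_symm_apply, g.apply_symm_apply, hg', Matrix.toBilin'_apply', Matrix.toBilin'_apply', ← hRv,
    ← hRv] at h
  have e : ∀ x y : κ → F, x ⬝ᵥ ((Rᵀ * B * R) *ᵥ y) = (R *ᵥ x) ⬝ᵥ (B *ᵥ (R *ᵥ y)) := fun x y => by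
    rw [← Matrix.mulVec_mulVec, ← Matrix.mulVec_mulVec, Matrix.dotProduct_mulVec, Matrix.vecMul_transpose]
  have h' := (e (Pi.single i 1) (Pi.single j 1)).trans h.symm
  simpa using h'

end CfsgLib.SignedClasses
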